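import Mathlib
import Cfsg.Prelude.Def_Blocks
import Cfsg.Agent.Lib.Chars.Ops
import Cfsg.Agent.Lib.Chars.Induced
import Cfsg.Agent.Lib.Chars.Integral
import Cfsg.Agent.Lib.Chars.Real
import Cfsg.Agent.Lib.Clifford.Correspondence

/-!
# Real characters of odd degree: elementary lemmas
-/

set_option autoImplicit false

namespace Cfsg.Agent.Lib.OddReal

open scoped ComplexConjugate
open Cfsg Cfsg.Agent.Lib

variable {G : Type*} [Group G]

/-- A function with real values. -/
def IsRealFun {α : Type*} (χ : α → ℂ) : Prop := ∀ a, conj (χ a) = χ a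

theorem isRealFun_iff_im {α : Type*} (χ : α → ℂ) : IsRealFun χ ↔ ∀ a, (χ a).im = 0 :=
  forall_congr' fun _ => Complex.conj_eq_iff_im

/-- The real irreducible characters of odd degree. -/
def RO (G : Type*) [Group G] : Type _ :=
  {χ : IrrCharacter G // IsRealFun (χ : G → ℂ) ∧ Odd (Cfsg.charDegree (χ : G → ℂ))}

theorem charDegree_spec {χ : G → ℂ} (h : IsCharacter G χ) :
    χ 1 = (Cfsg.charDegree χ : ℂ) := by
  obtain ⟨n, hn⟩ := Chars.isCharacter_exists_degree h
  simp [Cfsg.charDegree, hn]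

theorem charDegree_eq {χ : G → ℂ} {n : ℕ} (h : χ 1 = n) : Cfsg.charDegree χ = n := by
  simp [Cfsg.charDegree, h]

theorem charDegree_congr {H : Type*} [Group H] {χ : G → ℂ} {ψ : H → ℂ} (h : χ 1 = ψ 1) :
    Cfsg.charDegree χ = Cfsg.charDegree ψ := by
  simp [Cfsg.charDegree, h]

variable [Finite G]

omit [Finite G] in
theorem card_RO : Nat.card (RO G) =
    Nat.card {χ : IrrCharacter G // (∀ g : G, ((χ : G → ℂ) g).im = 0) ∧
      Odd (Cfsg.charDegree (χ : G → ℂ))} :=
  Nat.card_congr (Equiv.subtypeEquivRight fun _ => and_congr_left fun _ => isRealFun_iff_im _)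

omit [Finite G] in
theorem classInner_conj [Fintype G] (φ ψ : G → ℂ) :
    classInner (fun g => conj (φ g)) (fun g => conj (ψ g)) = conj (classInner φ ψ) := by
  simp [classInner, map_sum]

/-- A character of odd degree has a constituent of odd degree; a real one has a real one. -/
theorem exists_odd_constituent [Fintype G] {φ : G → ℂ} (hφ : IsCharacter G φ)
    (hodd : Odd (Cfsg.charDegree φ)) :
    ∃ θ : IrrCharacter G, Odd (Cfsg.charDegree (θ : G → ℂ)) ∧ classInner φ (θ : G → ℂ) ≠ 0 ∧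
      (IsRealFun φ → ∃ θ' : IrrCharacter G, IsRealFun (θ' : G → ℂ) ∧
        Odd (Cfsg.charDegree (θ' : G → ℂ)) ∧ classInner φ (θ' : G → ℂ) ≠ 0) := by
  classical
  obtain ⟨m, hm⟩ := Chars.isCharacter_exists_nat_decomp hφ
  have hmi : ∀ θ : IrrCharacter G, classInner φ (θ : G → ℂ) = m θ := fun θ => by
    rw [hm, Chars.classInner_sum_smul_irr]
  have hsum : Cfsg.charDegree φ = ∑ θ, m θ * Cfsg.charDegree (θ : G → ℂ) := by
    apply charDegree_eq
    have := congrFun hm 1
    simp only [Finset.sum_apply, Pi.smul_apply, smul_eq_mul] at this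
    rw [this]
    push_cast
    exact Finset.sum_congr rfl fun θ _ => by rw [← charDegree_spec (Chars.irr_isCharacter θ)]
  rw [hsum] at hodd
  have hne : ∀ θ : IrrCharacter G, Odd (m θ * Cfsg.charDegree (θ : G → ℂ)) →
      Odd (Cfsg.charDegree (θ : G → ℂ)) ∧ classInner φ (θ : G → ℂ) ≠ 0 := fun θ h => by
    obtain ⟨h1, h2⟩ := Nat.odd_mul.mp h
    exact ⟨h2, by rw [hmi, Nat.cast_ne_zero]; rintro e; rw [e] at h1; exact absurd h1 (by decide)⟩
  obtain ⟨θ, hθ⟩ : ∃ θ : IrrCharacter G, Odd (m θ * Cfsg.charDegree (θ : G → ℂ)) := by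
    by_contra h
    push Not at h
    exact (Nat.not_odd_iff_even.mpr
      (even_iff_two_dvd.mpr (Finset.dvd_sum fun θ _ => even_iff_two_dvd.mp (Nat.not_odd_iff_even.mp (h θ))))) hodd
  refine ⟨θ, (hne θ hθ).1, (hne θ hθ).2, fun hreal => ?_⟩
  by_contra hno
  push Not at hno
  have hsym : ∀ θ : IrrCharacter G, m (Chars.irrConj θ) = m θ := fun θ => by
    have h := classInner_conj φ (θ : G → ℂ)
    rw [funext hreal, show (fun g => conj ((θ : G → ℂ) g)) = (Chars.irrConj θ : G → ℂ) from rfl,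
      hmi, hmi, Complex.conj_natCast] at h
    exact_mod_cast h
  have h0 : ((∑ θ, m θ * Cfsg.charDegree (θ : G → ℂ) : ℕ) : ZMod 2) = 0 := by
    rw [Nat.cast_sum]
    refine Finset.sum_involution (fun θ _ => Chars.irrConj θ) (fun θ _ => ?_) (fun θ _ hθ0 hfix => ?_)
      (fun θ _ => Finset.mem_univ _) (fun θ _ => ?_)
    · have hd : Cfsg.charDegree (Chars.irrConj θ : G → ℂ) = Cfsg.charDegree (θ : G → ℂ) :=
        charDegree_congr (by
          rw [Chars.irrConj_apply, charDegree_spec (Chars.irr_isCharacter θ), Complex.conj_natCast])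
      rw [hsym, hd]
      exact CharTwo.add_self_eq_zero _
    · have hr : IsRealFun (θ : G → ℂ) := fun g => by
        conv_rhs => rw [← hfix]
        rfl
      obtain ⟨h1, h2⟩ := hne θ (Nat.not_even_iff_odd.mp fun he => hθ0 (by
        rw [ZMod.natCast_eq_zero_iff_even]; exact he))
      exact h2 (hno θ hr h1)
    · exact Subtype.ext (funext fun g => by simp [Chars.irrConj_apply])
  rw [ZMod.natCast_eq_zero_iff_even] at h0
  exact Nat.not_even_iff_odd.mpr hodd h0

/-- An irreducible character of odd degree of a `2`-group is linear. -/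
theorem apply_one_of_two_group (h2 : IsPGroup 2 G) (θ : IrrCharacter G)
    (hodd : Odd (Cfsg.charDegree (θ : G → ℂ))) : (θ : G → ℂ) 1 = 1 := by
  obtain ⟨a, ha⟩ := IsPGroup.iff_card.mp h2
  obtain ⟨d, -, hd, hdvd⟩ := Chars.irr_degree_dvd_card θ
  rw [charDegree_eq hd] at hodd
  have hc : Nat.Coprime d (2 ^ a) := Nat.Coprime.pow_right a (Nat.coprime_two_right.mpr hodd)
  rw [hd, Nat.eq_one_of_dvd_coprimes hc dvd_rfl (ha ▸ hdvd), Nat.cast_one]

/-- A linear character with real values squares to one. -/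
theorem sq_eq_one_of_real (ν : G →* ℂˣ) (h : IsRealFun fun g => (ν g : ℂ)) (g : G) :
    ν g ^ 2 = 1 := by
  have := Complex.mul_conj' (ν g : ℂ)
  rw [h g, Chars.norm_hom_apply ν g] at this
  exact Units.ext (by simpa [sq] using this)

omit [Finite G] in
theorem isRealFun_of_sq {ν : G →* ℂˣ} (h : ∀ g, ν g ^ 2 = 1) :
    IsRealFun fun g => (ν g : ℂ) := fun g => by
  have : ((ν g : ℂ)) ^ 2 = 1 := by rw [← Units.val_pow_eq_pow_val, h g, Units.val_one]
  rcases sq_eq_one_iff.mp this with e | e <;> simp [e]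

/-- Constituents of constituents of a pulled back character. -/
theorem constituent_comp {A : Type*} [Group A] [Fintype A] [Fintype G] (ι : A →* G) {φ : G → ℂ}
    (hφ : IsCharacter G φ) (μ : IrrCharacter G) (hμ : classInner φ (μ : G → ℂ) ≠ 0)
    {θ : A → ℂ} (hθ : IsIrrCharacter A θ)
    (h : classInner (fun a => (μ : G → ℂ) (ι a)) θ ≠ 0) :
    classInner (fun a => φ (ι a)) θ ≠ 0 := by
  classical
  obtain ⟨m, hm⟩ := Chars.isCharacter_exists_nat_decomp hφ
  have hk : ∀ χ : IrrCharacter G, ∃ k : ℕ, classInner (fun a => (χ : G → ℂ) (ι a)) θ = k :=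
    fun χ => Chars.isCharacter_classInner_nat (Chars.isCharacter_comp ι (Chars.irr_isCharacter χ))
      (Chars.isCharacter_of_isIrrCharacter hθ)
  choose k hk using hk
  have e : (fun a => φ (ι a)) = ∑ χ : IrrCharacter G, (m χ : ℂ) • fun a => (χ : G → ℂ) (ι a) := by
    funext a; simp [hm]
  rw [e, Chars.classInner_sum_left]
  simp only [Chars.classInner_smul_left, hk, ← Nat.cast_mul, ← Nat.cast_sum]
  rw [Nat.cast_ne_zero]
  intro h0
  rcases Nat.mul_eq_zero.mp (Finset.sum_eq_zero_iff.mp h0 μ (Finset.mem_univ _)) with e1 | e1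
  · exact hμ (by rw [hm, Chars.classInner_sum_smul_irr, e1, Nat.cast_zero])
  · exact h (by rw [hk, e1, Nat.cast_zero])

omit [Finite G] in
theorem linear_eq_of_inner_smul [Fintype G] {lam lam' : G →* ℂˣ} {c : ℂ}
    (h : classInner (c • fun g => (lam g : ℂ)) (fun g => (lam' g : ℂ)) ≠ 0) : lam' = lam := by
  by_contra hne
  apply h
  rw [Chars.classInner_smul_left]
  exact mul_eq_zero_of_right _ (Chars.classInner_irr_of_ne (χ := Chars.linIrr lam)
    (ψ := Chars.linIrr lam') fun e => hne (Chars.linIrr_injective e).symm)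

/-- A linear character of a subgroup of odd index lies under a character of odd degree. -/
theorem exists_odd_over [Fintype G] (H : Subgroup G) [Fintype H] (hH : Odd H.index)
    (μ : H →* ℂˣ) : ∃ χ : IrrCharacter G, Odd (Cfsg.charDegree (χ : G → ℂ)) ∧
      classInner (fun h : H => (χ : G → ℂ) h) (fun h => (μ h : ℂ)) ≠ 0 := by
  have hc := Chars.isCharacter_indFun H (Chars.isCharacter_hom μ)
  have hd : Odd (Cfsg.charDegree (indFun H fun h => (μ h : ℂ))) := by
    rw [charDegree_eq (n := H.index) (by rw [Chars.indFun_one_eq]; simp)]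
    exact hH
  obtain ⟨χ, h1, h2, -⟩ := exists_odd_constituent hc hd
  refine ⟨χ, h1, fun h0 => h2 ?_⟩
  rw [Chars.classInner_indFun_left H _ _ (Chars.irr_isClassFunction χ), ← Chars.conj_classInner,
    h0, map_zero]

/-- Descent of a character along a surjection. -/
theorem descend {H : Type*} [Group H] (f : G →* H) (hf : Function.Surjective f)
    (χ : IrrCharacter G) (hker : ∀ x, f x = 1 → (χ : G → ℂ) x = (χ : G → ℂ) 1) :
    ∃ ψ : IrrCharacter H, ∀ g, (ψ : H → ℂ) (f g) = (χ : G → ℂ) g := by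
  have : Finite H := Finite.of_surjective f hf
  obtain ⟨ψ, hψ⟩ := Chars.exists_irr_quotient f.ker χ fun x hx => hker x (MonoidHom.mem_ker.mp hx)
  let e : G ⧸ f.ker ≃* H := QuotientGroup.quotientKerEquivOfSurjective f hf
  refine ⟨⟨_, Chars.isIrrCharacter_comp_mulEquiv e.symm ψ.2⟩, fun g => ?_⟩
  have : e.symm (f g) = (g : G ⧸ f.ker) := by
    rw [MulEquiv.symm_apply_eq]; rfl
  show (ψ : G ⧸ f.ker → ℂ) (e.symm (f g)) = _
  rw [this, hψ g]

/-- Real odd-degree characters killing a kernel are those of the image. -/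
theorem card_RO_of_surjective {H : Type*} [Group H] (f : G →* H) (hf : Function.Surjective f)
    (p : IrrCharacter G → Prop)
    (hp : ∀ χ : IrrCharacter G, IsRealFun (χ : G → ℂ) → Odd (Cfsg.charDegree (χ : G → ℂ)) →
      (p χ ↔ ∀ x, f x = 1 → (χ : G → ℂ) x = (χ : G → ℂ) 1)) :
    Nat.card {χ : RO G // p χ.1} = Nat.card (RO H) := by
  have : Finite H := Finite.of_surjective f hf
  have hprop : ∀ ψ : IrrCharacter H, IsRealFun (ψ : H → ℂ) → Odd (Cfsg.charDegree (ψ : H → ℂ)) →
      IsRealFun (fun g => (ψ : H → ℂ) (f g)) ∧ Odd (Cfsg.charDegree fun g => (ψ : H → ℂ) (f g)) :=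
    fun ψ h1 h2 => ⟨fun g => h1 (f g),
      by rwa [charDegree_congr (ψ := (ψ : H → ℂ)) (by rw [map_one])]⟩
  refine (Nat.card_congr (Equiv.ofBijective (fun ψ : RO H =>
    (⟨⟨⟨_, Chars.isIrrCharacter_comp_surjective f hf ψ.1.2⟩, hprop ψ.1 ψ.2.1 ψ.2.2⟩, ?_⟩ :
      {χ : RO G // p χ.1})) ⟨?_, ?_⟩)).symm
  · exact (hp _ (hprop ψ.1 ψ.2.1 ψ.2.2).1 (hprop ψ.1 ψ.2.1 ψ.2.2).2).mpr fun x hx => by simp [hx]
  · intro ψ ψ' h
    refine Subtype.ext (Subtype.ext (funext fun y => ?_))
    obtain ⟨g, rfl⟩ := hf y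
    exact congrFun (congrArg (fun χ => ((χ.1.1 : IrrCharacter G) : G → ℂ)) h) g
  · rintro ⟨⟨χ, hr, ho⟩, hpχ⟩
    obtain ⟨ψ, hψ⟩ := descend f hf χ ((hp χ hr ho).mp hpχ)
    have hr' : IsRealFun (ψ : H → ℂ) := fun y => by
      obtain ⟨g, rfl⟩ := hf y
      rw [hψ]; exact hr g
    have ho' : Odd (Cfsg.charDegree (ψ : H → ℂ)) := by
      rwa [charDegree_congr (ψ := (χ : G → ℂ)) (by rw [← map_one f, hψ])]
    exact ⟨⟨ψ, hr', ho'⟩, Subtype.ext (Subtype.ext (Subtype.ext (funext hψ)))⟩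

/-- The image of the normalizer of a Sylow subgroup. -/
theorem map_normalizer {H : Type*} [Group H] (f : G →* H) (hf : Function.Surjective f)
    {p : ℕ} [Fact p.Prime] (P : Sylow p G) :
    (Subgroup.normalizer ((P : Subgroup G) : Set G)).map f =
      Subgroup.normalizer (((P : Subgroup G).map f : Subgroup H) : Set H) := by
  refine le_antisymm (Subgroup.le_normalizer_map _) fun b hb => ?_
  obtain ⟨g, rfl⟩ := hf b
  set L : Subgroup G := ((P : Subgroup G).map f).comap f with hL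
  have h1 : (P : Subgroup G) ≤ L := Subgroup.le_comap_map _ _
  have h2 : ((g • P : Sylow p G) : Subgroup G) ≤ L := by
    intro x hx
    obtain ⟨y, hy, rfl⟩ := Subgroup.mem_map.mp
      (show x ∈ (P : Subgroup G).map (MulAut.conj g).toMonoidHom from hx)
    have := (Subgroup.mem_normalizer_iff.mp hb (f y)).mp (Subgroup.mem_map_of_mem f hy)
    simpa [hL, map_mul, map_inv] using this
  obtain ⟨h, hh⟩ := MulAction.exists_smul_eq L ((g • P).subtype h2) (P.subtype h1)
  have hh' : ((h : G) * g) • P = P := by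
    rw [mul_smul]
    exact Sylow.subtype_injective (hP := Subgroup.conj_smul_le_of_le h2 h) (hQ := h1) ((Sylow.smul_subtype h2 h).symm.trans hh)
  obtain ⟨x, hx, hfx⟩ := Subgroup.mem_map.mp (show f (h : G) ∈ (P : Subgroup G).map f from h.2)
  refine ⟨x⁻¹ * ((h : G) * g), mul_mem (inv_mem (Subgroup.le_normalizer hx))
    (Sylow.smul_eq_iff_mem_normalizer.mp hh'), ?_⟩
  rw [map_mul, map_mul, map_inv, hfx, inv_mul_cancel_left]

end Cfsg.Agent.Lib.OddReal
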