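import Mathlib
import Cfsg.Agent.Lib.OddRealMcKay.Basic
import Cfsg.Agent.Lib.Clifford.LinearExtension

/-!
# Characters over a real linear character of a normal subgroup
-/

set_option autoImplicit false

namespace Cfsg.Agent.Lib.OddReal

open scoped ComplexConjugate
open Cfsg Cfsg.Agent.Lib

variable {G : Type*} [Group G] {K : Subgroup G} [hK : K.Normal]

/-- Conjugate of a linear character of a normal subgroup. -/
def cnj (g : G) (lam : K →* ℂˣ) : K →* ℂˣ where
  toFun k := lam ⟨g * k * g⁻¹, hK.conj_mem (k : G) k.2 g⟩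
  map_one' := by rw [← map_one lam]; congr 1; ext; simp
  map_mul' a b := by rw [← map_mul]; congr 1; ext; simp [mul_assoc]

theorem cnj_apply (g : G) (lam : K →* ℂˣ) (k : K) :
    cnj g lam k = lam ⟨g * k * g⁻¹, hK.conj_mem (k : G) k.2 g⟩ := rfl

theorem cnj_mul (g h : G) (lam : K →* ℂˣ) : cnj (g * h) lam = cnj h (cnj g lam) := by
  refine MonoidHom.ext fun k => congrArg lam (Subtype.ext ?_)
  simp [mul_assoc]

theorem cnj_one (lam : K →* ℂˣ) : cnj (1 : G) lam = lam := by
  refine MonoidHom.ext fun k => congrArg lam (Subtype.ext ?_)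
  simp

/-- The inertia group. -/
def stab (lam : K →* ℂˣ) : Subgroup G where
  carrier := {g | cnj g lam = lam}
  one_mem' := cnj_one lam
  mul_mem' {a b} ha hb := by
    show cnj (a * b) lam = lam
    rw [cnj_mul, ha, hb]
  inv_mem' {a} ha := by
    show cnj a⁻¹ lam = lam
    conv_lhs => rw [← (ha : cnj a lam = lam), ← cnj_mul, mul_inv_cancel, cnj_one]

theorem mem_stab {lam : K →* ℂˣ} {g : G} : g ∈ stab lam ↔ cnj g lam = lam := Iff.rfl

theorem conjFun_linear (g : G) (lam : K →* ℂˣ) :
    Clifford.conjFun g (fun k : K => (lam k : ℂ)) = fun k => (cnj g lam k : ℂ) := rfl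

theorem mem_stab_iff {lam : K →* ℂˣ} (g : G) :
    g ∈ stab lam ↔ Clifford.conjFun g (fun k : K => (lam k : ℂ)) = fun k => (lam k : ℂ) := by
  rw [mem_stab, conjFun_linear]
  exact ⟨fun h => by rw [h], fun h => MonoidHom.ext fun k => Units.ext (congrFun h k)⟩

theorem le_stab [IsMulCommutative K] (lam : K →* ℂˣ) : K ≤ stab lam := fun g hg =>
  MonoidHom.ext fun k => congrArg lam (Subtype.ext (by
    have := setLike_mul_comm hg k.2
    simp [this]))

variable [Finite G]

/-- Lying over a linear character of a normal subgroup. -/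
noncomputable def OverLin (K : Subgroup G) (lam : K →* ℂˣ) (χ : G → ℂ) : Prop :=
  letI := Fintype.ofFinite K
  classInner (fun k : K => χ k) (fun k => (lam k : ℂ)) ≠ 0

omit hK in
theorem overLin_iff [Fintype K] (lam : K →* ℂˣ) (χ : G → ℂ) :
    OverLin K lam χ ↔ classInner (fun k : K => χ k) (fun k => (lam k : ℂ)) ≠ 0 := by
  obtain rfl : ‹Fintype K› = Fintype.ofFinite K := Subsingleton.elim _ _
  rfl

theorem overLin_cnj {lam : K →* ℂˣ} {χ : G → ℂ} (hχ : IsClassFunction G χ) (g : G) :
    OverLin K (cnj g lam) χ ↔ OverLin K lam χ := by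
  cases nonempty_fintype G
  have := Fintype.ofFinite K
  rw [overLin_iff, overLin_iff, ← conjFun_linear]
  exact (congrArg (· ≠ 0) (Clifford.classInner_resFun_conjFun hχ g _)).to_iff

theorem exists_cnj_of_overLin {χ : IrrCharacter G} {lam lam' : K →* ℂˣ}
    (h : OverLin K lam (χ : G → ℂ)) (h' : OverLin K lam' (χ : G → ℂ)) :
    ∃ g : G, cnj g lam = lam' := by
  cases nonempty_fintype G
  have := Fintype.ofFinite K
  rw [overLin_iff] at h h'
  obtain ⟨g, hg⟩ := Clifford.exists_conjFun_eq_of_constituent χ.2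
    (Chars.isIrrCharacter_of_hom lam) (Chars.isIrrCharacter_of_hom lam') h h'
  exact ⟨g, MonoidHom.ext fun k => Units.ext (congrFun hg k)⟩

/-- An odd-degree character over an invariant linear character is scalar there. -/
theorem eq_smul_of_overLin {T : Subgroup G} (hKT : K ≤ T) {lam : K →* ℂˣ} (hT : T ≤ stab lam)
    (η : IrrCharacter T) (h : OverLin (K.subgroupOf T)
      (lam.comp (Subgroup.subgroupOfEquivOfLe hKT).toMonoidHom) (η : T → ℂ)) (k : K) :
    (η : T → ℂ) ⟨k, hKT k.2⟩ = (η : T → ℂ) 1 * (lam k : ℂ) := by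
  cases nonempty_fintype G
  have := Fintype.ofFinite K
  have := Fintype.ofFinite (K.subgroupOf T)
  rw [overLin_iff] at h
  have h' : classInner (Clifford.resTo hKT (η : T → ℂ)) (fun k => (lam k : ℂ)) ≠ 0 := by
    rwa [← Clifford.classInner_comp_equiv (Subgroup.subgroupOfEquivOfLe hKT)]
  have := Clifford.resTo_eq_smul (Chars.isIrrCharacter_of_hom lam) hKT
    (fun g hg => (mem_stab_iff g).mp (hT hg)) η.2 h'
  have h1 := congrFun this 1
  have hk := congrFun this k
  simp only [Clifford.resTo, Pi.smul_apply, map_one, Units.val_one, smul_eq_mul, mul_one] at h1 hk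
  rw [hk, ← h1]
  rfl

/-- Some constituent on an abelian normal subgroup of an odd-degree character is fixed by a given
`2`-subgroup. -/
theorem exists_fixed_over [IsMulCommutative K] (P : Sylow 2 G) (χ : IrrCharacter G)
    (hodd : Odd (Cfsg.charDegree (χ : G → ℂ))) :
    ∃ lam : K →* ℂˣ, OverLin K lam (χ : G → ℂ) ∧ (P : Subgroup G) ≤ stab lam := by
  cases nonempty_fintype G
  have := Fintype.ofFinite K
  obtain ⟨θ, -, hθ, -⟩ := exists_odd_constituent (φ := fun k : K => (χ : G → ℂ) k)
    (Chars.isCharacter_restrict K (Chars.irr_isCharacter χ))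
    (by rwa [charDegree_congr (ψ := (χ : G → ℂ)) (by simp)])
  obtain ⟨lam, hlam⟩ := Chars.exists_hom_of_degree_one (Chars.irr_isCharacter θ)
    (Chars.irr_apply_one_of_comm θ)
  rw [hlam] at hθ
  have hdeg := Clifford.apply_one_eq χ.2 (Chars.isIrrCharacter_of_hom lam) hθ (stab lam) mem_stab_iff
  obtain ⟨c, hc⟩ := Clifford.classInner_irr_nat
    (Chars.isCharacter_restrict K (Chars.irr_isCharacter χ)) (Chars.isIrrCharacter_of_hom lam)
  rw [show Clifford.resFun K (χ : G → ℂ) = fun k : K => (χ : G → ℂ) k from rfl, hc, map_one,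
    Units.val_one, mul_one, ← Nat.cast_mul] at hdeg
  rw [charDegree_eq hdeg] at hodd
  have hidx : Odd (stab lam).index := (Nat.odd_mul.mp hodd).2
  obtain ⟨S⟩ := (inferInstance : Nonempty (Sylow 2 (stab lam)))
  obtain ⟨Q, hQ⟩ := (S.2.map (stab lam).subtype).exists_le_sylow
  have hQle : (Q : Subgroup G) ≤ stab lam := by
    have e : (S : Subgroup (stab lam)).map (stab lam).subtype = Q := by
      refine Subgroup.eq_of_le_of_card_ge hQ ?_
      rw [Subgroup.card_map_of_injective (stab lam).subtype_injective, Sylow.card_eq_multiplicity,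
        Sylow.card_eq_multiplicity, ← (stab lam).card_mul_index,
        Nat.factorization_mul Nat.card_pos.ne' Subgroup.FiniteIndex.index_ne_zero, Finsupp.add_apply,
        Nat.factorization_eq_zero_of_not_dvd (n := (stab lam).index) hidx.not_two_dvd_nat, add_zero]
    exact e ▸ Subgroup.map_subtype_le _
  obtain ⟨g, hg⟩ := MulAction.exists_smul_eq G P Q
  refine ⟨cnj g lam, (overLin_cnj (Chars.irr_isClassFunction χ) g).mpr ((overLin_iff _ _).mpr hθ),
    fun x hx => ?_⟩
  have hxQ : g * x * g⁻¹ ∈ (Q : Subgroup G) := by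
    rw [← hg]
    exact ⟨x, hx, rfl⟩
  rw [mem_stab, ← cnj_mul, show g * x = g * x * g⁻¹ * g by group, cnj_mul,
    mem_stab.mp (hQle hxQ)]

variable [Fintype G]

/-- Induction from the inertia group. -/
theorem overLin_induced [IsMulCommutative K] {lam : K →* ℂˣ} [Fintype (stab lam)]
    (η : IrrCharacter (stab lam)) (h : OverLin (K.subgroupOf (stab lam))
      (lam.comp (Subgroup.subgroupOfEquivOfLe (le_stab lam)).toMonoidHom) (η : stab lam → ℂ)) :
    IsIrrCharacter G (indFun (stab lam) (η : stab lam → ℂ)) ∧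
      OverLin K lam (indFun (stab lam) (η : stab lam → ℂ)) ∧
      Cfsg.charDegree (indFun (stab lam) (η : stab lam → ℂ)) =
        (stab lam).index * Cfsg.charDegree (η : stab lam → ℂ) ∧
      (∀ η' : IrrCharacter (stab lam), OverLin (K.subgroupOf (stab lam))
          (lam.comp (Subgroup.subgroupOfEquivOfLe (le_stab lam)).toMonoidHom)
          (η' : stab lam → ℂ) →
        indFun (stab lam) (η' : stab lam → ℂ) = indFun (stab lam) (η : stab lam → ℂ) → η' = η) ∧
      ((∀ k, lam k ^ 2 = 1) →
        (IsRealFun (indFun (stab lam) (η : stab lam → ℂ)) ↔ IsRealFun (η : stab lam → ℂ))) := by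
  have := Fintype.ofFinite K
  have := Fintype.ofFinite (K.subgroupOf (stab lam))
  have hθ := Chars.isIrrCharacter_of_hom lam
  have hconv : ∀ ζ : stab lam → ℂ, OverLin (K.subgroupOf (stab lam))
      (lam.comp (Subgroup.subgroupOfEquivOfLe (le_stab lam)).toMonoidHom) ζ ↔
      classInner (Clifford.resTo (le_stab lam) ζ) (fun k => (lam k : ℂ)) ≠ 0 := fun ζ => by
    rw [overLin_iff, ← Clifford.classInner_comp_equiv (Subgroup.subgroupOfEquivOfLe (le_stab lam))]
    rfl
  have h2 := (hconv _).mp h
  have hirr := Clifford.isIrrCharacter_indFun_inertia hθ mem_stab_iff (le_stab lam) η.2 h2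
  have hfrob : ∀ ζ : IrrCharacter (stab lam),
      indFun (stab lam) (ζ : stab lam → ℂ) = indFun (stab lam) (η : stab lam → ℂ) →
      classInner (Clifford.resFun (stab lam) (indFun (stab lam) (η : stab lam → ℂ)))
        (ζ : stab lam → ℂ) ≠ 0 := fun ζ hζ => by
    rw [show Clifford.resFun (stab lam) (indFun (stab lam) (η : stab lam → ℂ)) =
      fun x : stab lam => indFun (stab lam) (η : stab lam → ℂ) x from rfl,
      ← Chars.classInner_indFun_right _ _ _ (Chars.isClassFunction_indFun _ _), hζ,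
      Chars.classInner_irr_self ⟨_, hirr⟩]
    exact one_ne_zero
  obtain ⟨-, hk, -, huniq⟩ := Clifford.clifford_induced hθ mem_stab_iff (le_stab lam) hirr η.2
    (hfrob η rfl) h2
  refine ⟨hirr, (overLin_iff _ _).mpr ?_, charDegree_eq ?_, fun η' h' he => ?_, fun hsq => ?_⟩
  · rw [hk] at h2
    exact h2
  · rw [Chars.indFun_one_eq, charDegree_spec (Chars.irr_isCharacter η), Nat.cast_mul]
  · exact Subtype.ext (huniq _ η'.2 (hfrob η' he) ((hconv _).mp h'))
  · have hconj : ∀ g : G, indFun (stab lam) (fun t => conj ((η : stab lam → ℂ) t)) g =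
        conj (indFun (stab lam) (η : stab lam → ℂ) g) := fun g => by
      simp only [indFun, map_mul, map_inv₀, map_natCast, map_sum]
      congr 1
      refine Finset.sum_congr rfl fun x _ => ?_
      by_cases hx : x⁻¹ * g * x ∈ stab lam
      · rw [Chars.extendByZero_of_mem _ hx, Chars.extendByZero_of_mem _ hx]
      · rw [Chars.extendByZero_of_not_mem _ hx, Chars.extendByZero_of_not_mem _ hx, map_zero]
    constructor
    · intro hr
      have hover : OverLin (K.subgroupOf (stab lam))
          (lam.comp (Subgroup.subgroupOfEquivOfLe (le_stab lam)).toMonoidHom)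
          (Chars.irrConj η : stab lam → ℂ) := by
        have hl : (fun k : K => (lam k : ℂ)) = fun k => conj (lam k : ℂ) :=
          funext fun k => (isRealFun_of_sq hsq k).symm
        rw [hconv, hl, show Clifford.resTo (le_stab lam) (Chars.irrConj η : stab lam → ℂ) =
          fun k => conj (Clifford.resTo (le_stab lam) (η : stab lam → ℂ) k) from rfl, classInner_conj]
        exact (map_ne_zero _).mpr h2
      have := huniq _ (Chars.irrConj η).2 (hfrob _ ((funext hconj).trans (funext hr)))
        ((hconv _).mp hover)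
      exact fun t => congrFun this t
    · intro hr g
      rw [← hconj g, funext hr]

/-- Every character over `lam` comes from the inertia group. -/
theorem exists_correspondent [IsMulCommutative K] {lam : K →* ℂˣ} [Fintype (stab lam)]
    (χ : IrrCharacter G) (h : OverLin K lam (χ : G → ℂ)) :
    ∃ η : IrrCharacter (stab lam), OverLin (K.subgroupOf (stab lam))
        (lam.comp (Subgroup.subgroupOfEquivOfLe (le_stab lam)).toMonoidHom) (η : stab lam → ℂ) ∧
      indFun (stab lam) (η : stab lam → ℂ) = (χ : G → ℂ) := by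
  have := Fintype.ofFinite K
  have := Fintype.ofFinite (K.subgroupOf (stab lam))
  rw [overLin_iff] at h
  obtain ⟨ψ, hψ, hind, hres⟩ := Clifford.exists_clifford_correspondent
    (Chars.isIrrCharacter_of_hom lam) mem_stab_iff (le_stab lam) χ.2 h
  refine ⟨⟨ψ, hψ⟩, (overLin_iff _ _).mpr ?_, hind⟩
  have h' : classInner (Clifford.resTo (le_stab lam) ψ) (fun k => (lam k : ℂ)) ≠ 0 := by
    rw [hres]; exact h
  rwa [← Clifford.classInner_comp_equiv (Subgroup.subgroupOfEquivOfLe (le_stab lam))] at h'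

omit [Fintype G]

/-- A real extension to a Sylow subgroup of a real linear character, from a real character of
odd degree over it. -/
theorem exists_real_ext_of_overLin [IsMulCommutative K] (P : Sylow 2 G)
    (hKP : K ≤ (P : Subgroup G)) {lam : K →* ℂˣ} (hPT : (P : Subgroup G) ≤ stab lam)
    (η : IrrCharacter (stab lam)) (hover : OverLin (K.subgroupOf (stab lam))
      (lam.comp (Subgroup.subgroupOfEquivOfLe (le_stab lam)).toMonoidHom) (η : stab lam → ℂ))
    (hodd : Odd (Cfsg.charDegree (η : stab lam → ℂ))) (hreal : IsRealFun (η : stab lam → ℂ)) :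
    ∃ ν : (P : Subgroup G) →* ℂˣ, (∀ x, ν x ^ 2 = 1) ∧ ∀ k : K, ν ⟨k, hKP k.2⟩ = lam k := by
  cases nonempty_fintype G
  have := Fintype.ofFinite K
  have := Fintype.ofFinite (P : Subgroup G)
  have := Fintype.ofFinite (stab lam)
  obtain ⟨θ, -, -, hθ⟩ := exists_odd_constituent
    (φ := fun x : (P : Subgroup G) => (η : stab lam → ℂ) (Subgroup.inclusion hPT x))
    (Chars.isCharacter_comp _ (Chars.irr_isCharacter η))
    (by rwa [charDegree_congr (ψ := (η : stab lam → ℂ)) (by rw [map_one])])
  obtain ⟨θ, hθr, hθo, hθ⟩ := hθ fun x => hreal _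
  obtain ⟨ν, hν⟩ := Chars.exists_hom_of_degree_one (Chars.irr_isCharacter θ)
    (apply_one_of_two_group P.2 θ hθo)
  rw [hν] at hθr
  refine ⟨ν, sq_eq_one_of_real ν hθr, fun k => ?_⟩
  have hc := constituent_comp (Subgroup.inclusion hKP)
    (Chars.isCharacter_comp (Subgroup.inclusion hPT) (Chars.irr_isCharacter η)) θ hθ
    (Chars.isIrrCharacter_of_hom (ν.comp (Subgroup.inclusion hKP))) (by
      rw [hν]
      exact ne_of_eq_of_ne
        (Chars.classInner_irr_self (Chars.linIrr (ν.comp (Subgroup.inclusion hKP)))) one_ne_zero)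
  have e : (fun a : K => (η : stab lam → ℂ) (Subgroup.inclusion hPT (Subgroup.inclusion hKP a))) =
      (η : stab lam → ℂ) 1 • fun a => (lam a : ℂ) :=
    funext fun a => eq_smul_of_overLin (le_stab lam) le_rfl η hover a
  rw [e] at hc
  exact DFunLike.congr_fun (linear_eq_of_inner_smul hc) k

/-- A real extension to a Sylow subgroup gives one to the inertia group. -/
theorem exists_real_ext_stab [IsMulCommutative K] (P : Sylow 2 G) (hKP : K ≤ (P : Subgroup G))
    {lam : K →* ℂˣ} (hPT : (P : Subgroup G) ≤ stab lam)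
    (ν : (P : Subgroup G) →* ℂˣ) (hν : ∀ x, ν x ^ 2 = 1) (hext : ∀ k : K, ν ⟨k, hKP k.2⟩ = lam k) :
    ∃ δ : stab lam →* ℂˣ, (∀ t, δ t ^ 2 = 1) ∧
      ∀ k : K, δ ⟨k, le_stab lam k.2⟩ = lam k := by
  have hsq : ∀ k, lam k ^ 2 = 1 := fun k => by rw [← hext, hν]
  let H : Subgroup (stab lam) := (P.subtype hPT : Subgroup (stab lam))
  let ν' : H →* rootsOfUnity 2 ℂ :=
    (ν.comp (Subgroup.subgroupOfEquivOfLe hPT).toMonoidHom).codRestrict (rootsOfUnity 2 ℂ)
      fun x => (mem_rootsOfUnity 2 _).mpr (hν _)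
  have hodd : Odd H.index := by
    rw [← Nat.not_even_iff_odd, even_iff_two_dvd]
    exact (P.subtype hPT).not_dvd_index
  refine ⟨(rootsOfUnity 2 ℂ).subtype.comp (MonoidHom.transfer ν'), fun t => ?_, fun k => ?_⟩
  · exact (mem_rootsOfUnity 2 _).mp (MonoidHom.transfer ν' t).2
  · have hKH : K.subgroupOf (stab lam) ≤ H := fun x hx => hKP hx
    have := Clifford.transfer_apply_of_invariant (A := rootsOfUnity 2 ℂ) hKH ν'
      ⟨⟨k, le_stab lam k.2⟩, k.2⟩ ⟨lam k, (mem_rootsOfUnity 2 _).mpr (hsq k)⟩ (fun g =>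
        Subtype.ext ((hext ⟨_, hK.conj_mem (k : G) k.2 g⟩).trans
          (DFunLike.congr_fun (mem_stab.mp g.2) k)))
    show ((MonoidHom.transfer ν' _ : rootsOfUnity 2 ℂ) : ℂˣ) = lam k
    rw [this, SubgroupClass.coe_pow]
    obtain ⟨m, hm⟩ := hodd
    show lam k ^ H.index = lam k
    rw [hm, pow_succ, pow_mul, hsq, one_pow, one_mul]

/-- Twisting by a real linear character. -/
noncomputable def twist (δ : G →* ℂˣ) (χ : IrrCharacter G) : IrrCharacter G :=
  ⟨_, Chars.isIrrCharacter_hom_mul δ χ.2⟩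

omit hK in
theorem twist_apply (δ : G →* ℂˣ) (χ : IrrCharacter G) (g : G) :
    (twist δ χ : G → ℂ) g = (δ g : ℂ) * (χ : G → ℂ) g := rfl

omit hK in
theorem twist_props {δ : G →* ℂˣ} (hδ : ∀ g, δ g ^ 2 = 1) (χ : IrrCharacter G) :
    twist δ (twist δ χ) = χ ∧
      (IsRealFun (χ : G → ℂ) → IsRealFun (twist δ χ : G → ℂ)) ∧
      Cfsg.charDegree (twist δ χ : G → ℂ) = Cfsg.charDegree (χ : G → ℂ) := by
  refine ⟨Subtype.ext (funext fun g => ?_), fun h g => ?_,
    charDegree_congr (by rw [twist_apply, map_one, Units.val_one, one_mul])⟩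
  · rw [twist_apply, twist_apply, ← mul_assoc, ← Units.val_mul, ← sq, hδ, Units.val_one, one_mul]
  · rw [twist_apply, map_mul, h, isRealFun_of_sq hδ g]

/-- Characters of the inertia group over an extendible real linear character correspond to
characters of the quotient. -/
theorem overLin_twist_iff [IsMulCommutative K] {lam : K →* ℂˣ} (δ : stab lam →* ℂˣ)
    (hδ : ∀ t, δ t ^ 2 = 1) (hext : ∀ k : K, δ ⟨k, le_stab lam k.2⟩ = lam k)
    (η : IrrCharacter (stab lam)) :
    OverLin (K.subgroupOf (stab lam))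
        (lam.comp (Subgroup.subgroupOfEquivOfLe (le_stab lam)).toMonoidHom) (η : stab lam → ℂ) ↔
      ∀ t : stab lam, (t : G) ∈ K →
        (twist δ η : stab lam → ℂ) t = (twist δ η : stab lam → ℂ) 1 := by
  have hsq : ∀ k, lam k ^ 2 = 1 := fun k => by rw [← hext, hδ]
  constructor
  · intro h t ht
    rw [twist_apply, twist_apply, map_one, Units.val_one, one_mul,
      show t = ⟨(⟨(t : G), ht⟩ : K), le_stab lam ht⟩ from rfl, hext,
      eq_smul_of_overLin (le_stab lam) le_rfl η h ⟨(t : G), ht⟩, mul_left_comm, ← Units.val_mul,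
      ← sq, hsq, Units.val_one, mul_one]
  · intro h
    cases nonempty_fintype G
    have := Fintype.ofFinite (K.subgroupOf (stab lam))
    rw [overLin_iff]
    have : (fun x : K.subgroupOf (stab lam) => (η : stab lam → ℂ) x) =
        (η : stab lam → ℂ) 1 • fun x => ((lam.comp
          (Subgroup.subgroupOfEquivOfLe (le_stab lam)).toMonoidHom) x : ℂ) := by
      funext x
      have hx := h x.1 x.2
      rw [twist_apply, twist_apply, map_one, Units.val_one, one_mul] at hx
      rw [Pi.smul_apply, smul_eq_mul, ← hx, mul_comm, ← mul_assoc,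
        show ((lam.comp (Subgroup.subgroupOfEquivOfLe (le_stab lam)).toMonoidHom) x) = δ x.1 from
          (hext ⟨(x.1 : G), x.2⟩).symm, ← Units.val_mul, ← sq, hδ, Units.val_one, one_mul]
    rw [this, Chars.classInner_smul_left]
    exact mul_ne_zero (Chars.irr_apply_one_ne_zero η)
      (ne_of_eq_of_ne (Chars.classInner_irr_self (Chars.linIrr _)) one_ne_zero)

end Cfsg.Agent.Lib.OddReal
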