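import Mathlib
import Cfsg.Agent.Lib.OddRealMcKay.Fibre

/-!
# Counting real characters of odd degree by Sylow-fixed linear characters
-/

set_option autoImplicit false

namespace Cfsg.Agent.Lib.OddReal

open scoped ComplexConjugate
open Cfsg Cfsg.Agent.Lib

/-- A finite set fibred over labels, the labels of a point forming a class of a relation. -/
theorem card_eq_sum_fibres {C L : Type*} [Finite C] [Fintype L] (t : C → L → Prop)
    (o : L → L → Prop) (ht : ∀ c, ∃ l, t c l) (ht' : ∀ c l l', t c l → (t c l' ↔ o l l')) :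
    (Nat.card C : ℚ) = ∑ l, (Nat.card {c // t c l} : ℚ) / (Nat.card {l' // o l l'} : ℚ) := by
  classical
  cases nonempty_fintype C
  have e1 : ∀ l, (Nat.card {c // t c l} : ℚ) / (Nat.card {l' // o l l'} : ℚ) =
      ∑ c : C, if t c l then 1 / (Nat.card {l' // o l l'} : ℚ) else 0 := fun l => by
    rw [Finset.sum_ite, Finset.sum_const_zero, add_zero, Finset.sum_const, nsmul_eq_mul,
      Nat.card_eq_fintype_card (α := {c // t c l}), Fintype.card_subtype, mul_one_div]
  rw [Finset.sum_congr rfl fun l _ => e1 l, Finset.sum_comm,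
    Finset.sum_congr rfl (g := fun _ => (1 : ℚ)) fun c _ => ?_, Finset.sum_const,
    Finset.card_univ, nsmul_eq_mul, mul_one, Nat.card_eq_fintype_card]
  obtain ⟨l₀, hl₀⟩ := ht c
  have e2 : ∀ l, t c l → Nat.card {l' // o l l'} = (Finset.univ.filter fun l' => t c l').card :=
    fun l hl => by
      rw [Nat.card_congr (Equiv.subtypeEquivRight fun l' => (ht' c l l' hl).symm),
        Nat.card_eq_fintype_card, Fintype.card_subtype]
  rw [Finset.sum_ite, Finset.sum_const_zero, add_zero,
    Finset.sum_congr rfl (g := fun _ => 1 / ((Finset.univ.filter fun l' => t c l').card : ℚ))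
      fun l hl => by rw [e2 l (Finset.mem_filter.mp hl).2],
    Finset.sum_const, nsmul_eq_mul, mul_one_div, div_self]
  exact Nat.cast_ne_zero.mpr (Finset.card_ne_zero.mpr ⟨l₀, by simp [hl₀]⟩)

/-- Two finite sets fibred over a common labelling have equal cardinality when all fibres do. -/
theorem card_eq_of_fibres {A B L : Type*} [Finite A] [Finite B] [Finite L] (r : A → L → Prop)
    (s : B → L → Prop) (o : L → L → Prop)
    (hr : ∀ a, ∃ l, r a l) (hr' : ∀ a l l', r a l → (r a l' ↔ o l l'))
    (hs : ∀ b, ∃ l, s b l) (hs' : ∀ b l l', s b l → (s b l' ↔ o l l'))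
    (h : ∀ l, Nat.card {a // r a l} = Nat.card {b // s b l}) : Nat.card A = Nat.card B := by
  cases nonempty_fintype L
  have e := card_eq_sum_fibres r o hr hr'
  rw [Finset.sum_congr rfl fun l _ => by rw [h l], ← card_eq_sum_fibres s o hs hs'] at e
  exact_mod_cast e

variable {G : Type*} [Group G] [Finite G] {K : Subgroup G} [hK : K.Normal] [IsMulCommutative K]

theorem odd_index_of_le (P : Sylow 2 G) {T : Subgroup G} (h : (P : Subgroup G) ≤ T) :
    Odd T.index := by
  rw [← Nat.not_even_iff_odd, even_iff_two_dvd]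
  exact fun h2 => P.not_dvd_index (h2.trans (Subgroup.index_dvd_of_le h))

/-- A character of odd degree over a fixed linear character has an odd-degree correspondent. -/
theorem exists_odd_correspondent {lam : K →* ℂˣ} (χ : IrrCharacter G)
    (hodd : Odd (Cfsg.charDegree (χ : G → ℂ))) (h : OverLin K lam (χ : G → ℂ)) :
    letI := Fintype.ofFinite G
    letI := Fintype.ofFinite (stab lam)
    ∃ η : IrrCharacter (stab lam), OverLin (K.subgroupOf (stab lam))
        (lam.comp (Subgroup.subgroupOfEquivOfLe (le_stab lam)).toMonoidHom) (η : stab lam → ℂ) ∧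
      indFun (stab lam) (η : stab lam → ℂ) = (χ : G → ℂ) ∧
      Odd (Cfsg.charDegree (η : stab lam → ℂ)) := by
  let _ := Fintype.ofFinite G
  let _ := Fintype.ofFinite (stab lam)
  obtain ⟨η, hη, hind⟩ := exists_correspondent χ h
  refine ⟨η, hη, hind, ?_⟩
  have := (overLin_induced η hη).2.2.1
  rw [hind] at this
  rw [this] at hodd
  exact (Nat.odd_mul.mp hodd).2

/-- A real extension exists when some real character of odd degree lies over the linear
character. -/
theorem exists_real_ext_of_fibre (P : Sylow 2 G) (hKP : K ≤ (P : Subgroup G)) {lam : K →* ℂˣ}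
    (hsq : ∀ k, lam k ^ 2 = 1) (hPT : (P : Subgroup G) ≤ stab lam) (χ : RO G)
    (h : OverLin K lam (χ.1 : G → ℂ)) :
    ∃ ν : (P : Subgroup G) →* ℂˣ, (∀ x, ν x ^ 2 = 1) ∧ ∀ k : K, ν ⟨k, hKP k.2⟩ = lam k := by
  let _ := Fintype.ofFinite G
  let _ := Fintype.ofFinite (stab lam)
  obtain ⟨η, hη, hind, hodd⟩ := exists_odd_correspondent χ.1 χ.2.2 h
  refine exists_real_ext_of_overLin P hKP hPT η hη hodd ?_
  rw [← ((overLin_induced η hη).2.2.2.2 hsq), hind]
  exact χ.2.1

/-- The number of real odd-degree characters over an extendible real linear character. -/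
theorem card_fibre (P : Sylow 2 G) {lam : K →* ℂˣ} (hPT : (P : Subgroup G) ≤ stab lam)
    (δ : stab lam →* ℂˣ) (hδ : ∀ t, δ t ^ 2 = 1)
    (hext : ∀ k : K, δ ⟨k, le_stab lam k.2⟩ = lam k)
    {B : Type*} [Group B] (f : stab lam →* B) (hf : Function.Surjective f)
    (hker : ∀ t : stab lam, f t = 1 ↔ (t : G) ∈ K) :
    Nat.card {χ : RO G // OverLin K lam (χ.1 : G → ℂ)} = Nat.card (RO B) := by
  let _ := Fintype.ofFinite G
  let _ := Fintype.ofFinite (stab lam)
  have hsq : ∀ k, lam k ^ 2 = 1 := fun k => by rw [← hext, hδ]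
  have hidx := odd_index_of_le P hPT
  let lam' := lam.comp (Subgroup.subgroupOfEquivOfLe (le_stab lam)).toMonoidHom
  let F : {η : RO (stab lam) // OverLin (K.subgroupOf (stab lam)) lam' (η.1 : stab lam → ℂ)} →
      {χ : RO G // OverLin K lam (χ.1 : G → ℂ)} := fun η =>
    ⟨⟨⟨_, (overLin_induced η.1.1 η.2).1⟩, ((overLin_induced η.1.1 η.2).2.2.2.2 hsq).mpr η.1.2.1, by
      rw [(overLin_induced η.1.1 η.2).2.2.1]; exact hidx.mul η.1.2.2⟩,
      (overLin_induced η.1.1 η.2).2.1⟩
  have hF : Function.Bijective F := by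
    refine ⟨fun η η' h => ?_, fun χ => ?_⟩
    · have h' : indFun (stab lam) (η.1.1 : stab lam → ℂ) = indFun (stab lam) (η'.1.1 : stab lam → ℂ) :=
        congrArg (fun c => ((c.1.1 : IrrCharacter G) : G → ℂ)) h
      exact Subtype.ext (Subtype.ext ((overLin_induced η'.1.1 η'.2).2.2.2.1 _ η.2 h'))
    · obtain ⟨η, hη, hind, hodd⟩ := exists_odd_correspondent χ.1.1 χ.1.2.2 χ.2
      have hr : IsRealFun (η : stab lam → ℂ) :=
        ((overLin_induced η hη).2.2.2.2 hsq).mp (by rw [hind]; exact χ.1.2.1)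
      exact ⟨⟨⟨η, hr, hodd⟩, hη⟩, Subtype.ext (Subtype.ext (Subtype.ext hind))⟩
  rw [← Nat.card_congr (Equiv.ofBijective F hF), ← card_RO_of_surjective f hf
    (fun η => ∀ t : stab lam, (t : G) ∈ K → (η : stab lam → ℂ) t = (η : stab lam → ℂ) 1)
    (fun η _ _ => forall_congr' fun t => by rw [hker])]
  let tw : RO (stab lam) ≃ RO (stab lam) := Function.Involutive.toPerm
    (fun η => ⟨twist δ η.1, (twist_props hδ η.1).2.1 η.2.1, by
      rw [(twist_props hδ η.1).2.2]; exact η.2.2⟩)
    (fun η => Subtype.ext (twist_props hδ η.1).1)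
  exact Nat.card_congr (tw.subtypeEquiv fun η => overLin_twist_iff δ hδ hext η.1)

end Cfsg.Agent.Lib.OddReal
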