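import Mathlib
import Cfsg.Agent.Lib.OddRealMcKay.Counting
import Cfsg.Agent.Lib.MinimalNormal

/-!
# Real characters of odd degree of solvable groups and the Sylow 2-normalizer
-/

set_option autoImplicit false

namespace Cfsg.Agent.Lib.OddReal

open scoped ComplexConjugate
open Cfsg Cfsg.Agent.Lib

universe u

/-- All irreducible characters of odd degree are real. -/
def AllReal (G : Type u) [Group G] : Prop :=
  ∀ χ : IrrCharacter G, Odd (Cfsg.charDegree (χ : G → ℂ)) → IsRealFun (χ : G → ℂ)

/-- Self-normalizing with elementary abelianization. -/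
def Crit {G : Type u} [Group G] (P : Subgroup G) : Prop :=
  Subgroup.normalizer (P : Set G) = P ∧ ∀ x ∈ P, x ^ 2 ∈ ⁅P, P⁆

/-- The statement proved by induction. -/
def Goal (G : Type u) [Group G] : Prop :=
  ∀ P : Sylow 2 G, Nat.card (RO G) = Nat.card (RO (Subgroup.normalizer ((P : Subgroup G) : Set G))) ∧
    (AllReal G ↔ Crit (P : Subgroup G))

variable {G : Type u} [Group G] [Finite G]

theorem finite_RO : Finite (RO G) := Subtype.finite

theorem crit_map {H : Type u} [Group H] (f : G →* H) (hf : Function.Surjective f) (P : Sylow 2 G)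
    (h : Crit (P : Subgroup G)) : Crit ((P : Subgroup G).map f) := by
  refine ⟨by rw [← map_normalizer f hf P, h.1], fun y hy => ?_⟩
  obtain ⟨x, hx, rfl⟩ := Subgroup.mem_map.mp hy
  rw [← map_pow, ← Subgroup.map_commutator]
  exact Subgroup.mem_map_of_mem f (h.2 x hx)

theorem allReal_map {H : Type u} [Group H] (f : G →* H) (hf : Function.Surjective f)
    (h : AllReal G) : AllReal H := fun ψ hψ y => by
  have : Finite H := Finite.of_surjective f hf
  obtain ⟨g, rfl⟩ := hf y
  exact h ⟨_, Chars.isIrrCharacter_comp_surjective f hf ψ.2⟩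
    (by rwa [charDegree_congr (ψ := (ψ : H → ℂ)) (by simp)]) g

/-- A real odd-degree character kills every normal subgroup of odd order. -/
theorem kill_of_odd (K : Subgroup G) [K.Normal] (hK : Odd (Nat.card K)) (χ : IrrCharacter G)
    (hr : IsRealFun (χ : G → ℂ)) (hodd : Odd (Cfsg.charDegree (χ : G → ℂ))) :
    ∀ x ∈ K, (χ : G → ℂ) x = (χ : G → ℂ) 1 := by
  cases nonempty_fintype G
  have := Fintype.ofFinite K
  obtain ⟨θ, -, -, hθ⟩ := exists_odd_constituent (φ := fun k : K => (χ : G → ℂ) k)
    (Chars.isCharacter_restrict K (Chars.irr_isCharacter χ))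
    (by rwa [charDegree_congr (ψ := (χ : G → ℂ)) (by simp)])
  obtain ⟨θ, hθr, -, hθ⟩ := hθ fun k => hr _
  have h1 := Chars.eq_trivial_of_real_of_odd hK θ ((isRealFun_iff_im _).mp hθr)
  have hfun : (θ : K → ℂ) = fun _ => 1 := by rw [h1]; funext k; simp
  have hinner : classInner (Clifford.resFun K (χ : G → ℂ)) (θ : K → ℂ) ≠ 0 := hθ
  have := Clifford.resFun_eq_smul_of_invariant χ.2 θ.2 hinner fun g => by rw [hfun]; rfl
  intro x hx
  have hx' := congrFun this ⟨x, hx⟩
  have h1' := congrFun this 1
  simp only [Clifford.resFun, Pi.smul_apply, hfun, OneMemClass.coe_one] at hx' h1'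
  rw [hx', h1']

omit [Finite G] in
theorem card_range_sq (P : Subgroup G) :
    (∀ x ∈ P, x ^ 2 ∈ ⁅P, P⁆) ↔ ∀ x : P, x ^ 2 ∈ commutator P := by
  rw [← Subgroup.map_subtype_commutator]
  constructor
  · intro h x
    obtain ⟨y, hy, hxy⟩ := Subgroup.mem_map.mp (h x x.2)
    rwa [show y = x ^ 2 from Subtype.ext hxy] at hy
  · exact fun h x hx => ⟨(⟨x, hx⟩ : P) ^ 2, h ⟨x, hx⟩, rfl⟩

section OddCase

variable (K : Subgroup G) [K.Normal] [IsMulCommutative K] (hK : Odd (Nat.card K)) (P : Sylow 2 G)

include hK

omit [IsMulCommutative K] [K.Normal] in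
theorem inf_eq_bot_of_odd : K ⊓ (P : Subgroup G) = ⊥ := by
  obtain ⟨a, ha⟩ := IsPGroup.iff_card.mp P.2
  exact disjoint_iff.mp (Subgroup.disjoint_of_coprime_natCard
    (ha ▸ Nat.Coprime.pow_right a (Nat.coprime_two_right.mpr hK)))

omit [IsMulCommutative K] in
theorem count_odd (IH : Goal (G ⧸ K)) :
    Nat.card (RO G) = Nat.card (RO (Subgroup.normalizer ((P : Subgroup G) : Set G))) := by
  set N := Subgroup.normalizer ((P : Subgroup G) : Set G) with hN
  let π := QuotientGroup.mk' K
  have hπ : Function.Surjective π := QuotientGroup.mk'_surjective K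
  have hQ := (IH (P.mapSurjective hπ)).1
  have hNmap : N.map π = Subgroup.normalizer
      (((P.mapSurjective hπ : Sylow 2 (G ⧸ K)) : Subgroup (G ⧸ K)) : Set (G ⧸ K)) := by
    rw [Sylow.coe_mapSurjective]; exact map_normalizer π hπ P
  let f : N →* N.map π := π.subgroupMap N
  have hf : Function.Surjective f := π.subgroupMap_surjective N
  have e1 : Nat.card (RO G) = Nat.card (RO (G ⧸ K)) := by
    rw [← card_RO_of_surjective π hπ (fun _ => True) fun χ hr ho => ⟨fun _ x hx =>
      kill_of_odd K hK χ hr ho x ((QuotientGroup.eq_one_iff x).mp hx), fun _ => trivial⟩]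
    exact (Nat.card_congr (Equiv.subtypeUnivEquiv fun _ => trivial)).symm
  have hKN : Odd (Nat.card (K.subgroupOf N)) := by
    refine hK.of_dvd_nat ?_
    rw [← Subgroup.card_map_of_injective N.subtype_injective, Subgroup.subgroupOf_map_subtype]
    exact Subgroup.card_dvd_of_le inf_le_left
  have e2 : Nat.card (RO N) = Nat.card (RO (N.map π)) := by
    rw [← card_RO_of_surjective f hf (fun _ => True) fun χ hr ho => ⟨fun _ x hx =>
      kill_of_odd (K.subgroupOf N) hKN χ hr ho x ((QuotientGroup.eq_one_iff (x : G)).mp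
        (congrArg Subtype.val hx)), fun _ => trivial⟩]
    exact (Nat.card_congr (Equiv.subtypeUnivEquiv fun _ => trivial)).symm
  rw [e1, e2, hQ, ← hNmap]

theorem allReal_iff_odd (IH : Goal (G ⧸ K)) : AllReal G ↔ Crit (P : Subgroup G) := by
  cases nonempty_fintype G
  have := Fintype.ofFinite K
  let π := QuotientGroup.mk' K
  have hπ : Function.Surjective π := QuotientGroup.mk'_surjective K
  have hQ := (IH (P.mapSurjective hπ)).2
  rw [Sylow.coe_mapSurjective] at hQ
  have hKP := inf_eq_bot_of_odd K hK P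
  have hcomm : ∀ x ∈ K, ∀ p ∈ (P : Subgroup G),
      x ∈ Subgroup.normalizer ((P : Subgroup G) : Set G) → p * x = x * p := by
    intro x hx p hp hxN
    have hm : x * p * x⁻¹ * p⁻¹ ∈ K ⊓ (P : Subgroup G) := by
      refine Subgroup.mem_inf.mpr ⟨?_, mul_mem ((Subgroup.mem_normalizer_iff.mp hxN p).mp hp) (inv_mem hp)⟩
      rw [show x * p * x⁻¹ * p⁻¹ = x * (p * x⁻¹ * p⁻¹) by group]
      exact mul_mem hx (Subgroup.Normal.conj_mem inferInstance _ (inv_mem hx) p)
    rw [hKP, Subgroup.mem_bot, mul_inv_eq_one, mul_inv_eq_iff_eq_mul] at hm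
    exact hm.symm
  constructor
  · intro hA
    obtain ⟨hN, hsq⟩ := hQ.mp (allReal_map π hπ hA)
    -- no nontrivial element of `K` is centralized by `P`
    have hcent : ∀ x ∈ K, (∀ p ∈ (P : Subgroup G), p * x = x * p) → x = 1 := by
      intro x hx hxc
      by_contra hx1
      set m := Nat.card (P : Subgroup G) with hm
      have hxm : (⟨x, hx⟩ : K) ^ m ≠ 1 := by
        intro h
        obtain ⟨a, ha⟩ := IsPGroup.iff_card.mp P.2
        apply hx1
        have := Nat.eq_one_of_dvd_coprimes (Nat.Coprime.pow_right a (Nat.coprime_two_right.mpr hK))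
          (orderOf_dvd_natCard (⟨x, hx⟩ : K)) (by rw [← ha, ← hm]; exact orderOf_dvd_of_pow_eq_one h)
        exact congrArg Subtype.val (orderOf_eq_one_iff.mp this)
      let _ : CommGroup K := { (inferInstance : Group K) with mul_comm := fun a b => mul_comm' a b }
      obtain ⟨θ₀, hθ₀⟩ := CommGroup.exists_apply_ne_one_of_hasEnoughRootsOfUnity K ℂ hxm
      have := Fintype.ofFinite (P : Subgroup G)
      -- the product of the conjugates of `θ₀` under `P`
      let θ : K →* ℂˣ := ∏ p : (P : Subgroup G), cnj (p : G) θ₀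
      have hθ : ∀ k, θ k = ∏ p : (P : Subgroup G), cnj (p : G) θ₀ k := fun k =>
        MonoidHom.finsetProd_apply _ _ k
      have hθinv : (P : Subgroup G) ≤ stab θ := fun q hq => by
        rw [mem_stab]
        refine MonoidHom.ext fun k => ?_
        rw [cnj_apply, hθ, hθ]
        refine Fintype.prod_equiv (Equiv.mulRight (⟨q, hq⟩ : (P : Subgroup G))) _ _ fun p => ?_
        simp only [Equiv.coe_mulRight, Subgroup.coe_mul, cnj_mul, cnj_apply]
      have hθx : θ ⟨x, hx⟩ ≠ 1 := by
        rw [hθ, Finset.prod_congr rfl (g := fun _ => θ₀ ⟨x, hx⟩) fun p _ => ?_, Finset.prod_const,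
          Finset.card_univ, Fintype.card_eq_nat_card, ← map_pow]
        · exact hθ₀
        · rw [cnj_apply]
          congr 1
          ext
          simp [hxc p p.2]
      -- extend `θ` to `K ⊔ P` and lift to a character of odd degree
      set H := K ⊔ (P : Subgroup G) with hH
      have hKH : K ≤ H := le_sup_left
      have hHT : H ≤ stab θ := sup_le (le_stab θ) hθinv
      obtain ⟨μ, hμ, -⟩ := Clifford.exists_linear_extension_coprime
        (N := K.subgroupOf H) (θ.comp (Subgroup.subgroupOfEquivOfLe hKH).toMonoidHom)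
        (fun g n => DFunLike.congr_fun (mem_stab.mp (hHT g.2))
          (Subgroup.subgroupOfEquivOfLe hKH n)) (by
          obtain ⟨a, ha⟩ := IsPGroup.iff_card.mp P.2
          have hd : orderOf (θ.comp (Subgroup.subgroupOfEquivOfLe hKH).toMonoidHom) ∣ Nat.card K := by
            refine orderOf_dvd_of_pow_eq_one (MonoidHom.ext fun n => ?_)
            rw [MonoidHom.pow_apply, ← map_pow]
            show θ ((Subgroup.subgroupOfEquivOfLe hKH) (n ^ Nat.card K)) = 1
            rw [map_pow, pow_card_eq_one', map_one]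
          refine Nat.Coprime.coprime_dvd_right hd (Nat.Coprime.coprime_dvd_left (?_ : _ ∣ 2 ^ a)
            (Nat.Coprime.pow_left a (Nat.coprime_two_left.mpr hK)))
          rw [← ha, ← Subgroup.relIndex]
          rw [hH, sup_comm, Subgroup.relIndex_sup_right]
          exact Subgroup.relIndex_dvd_card _ _)
      have hHodd : Odd H.index := odd_index_of_le P le_sup_right
      have := Fintype.ofFinite H
      obtain ⟨χ, hχo, hχμ⟩ := exists_odd_over H hHodd μ
      have hkill := kill_of_odd K hK χ (hA χ hχo) hχo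
      have hc := constituent_comp (Subgroup.inclusion hKH)
        (Chars.isCharacter_restrict H (Chars.irr_isCharacter χ)) (Chars.linIrr μ) hχμ
        (Chars.isIrrCharacter_of_hom (μ.comp (Subgroup.inclusion hKH)))
        (ne_of_eq_of_ne (Chars.classInner_irr_self (Chars.linIrr (μ.comp (Subgroup.inclusion hKH))))
          one_ne_zero)
      have he : (fun a : K => (χ : G → ℂ) ((Subgroup.inclusion hKH a : H) : G)) =
          (χ : G → ℂ) 1 • fun a => (((1 : K →* ℂˣ) a : ℂˣ) : ℂ) := funext fun a => by
        simpa using hkill a a.2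
      rw [he] at hc
      apply hθx
      have := DFunLike.congr_fun (linear_eq_of_inner_smul hc) ⟨x, hx⟩
      rw [MonoidHom.one_apply, MonoidHom.comp_apply] at this
      rw [← this]
      exact (hμ ⟨⟨x, hKH hx⟩, hx⟩).symm
    have hNP : Subgroup.normalizer ((P : Subgroup G) : Set G) = (P : Subgroup G) := by
      refine le_antisymm (fun n hn => ?_) Subgroup.le_normalizer
      have : π n ∈ (P : Subgroup G).map π := by
        rw [← hN, ← map_normalizer π hπ P]
        exact Subgroup.mem_map_of_mem π hn
      obtain ⟨p, hp, hpn⟩ := Subgroup.mem_map.mp this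
      have hk : p⁻¹ * n ∈ K := QuotientGroup.eq.mp hpn
      have := hcent _ hk fun q hq =>
        hcomm _ hk q hq (mul_mem (inv_mem (Subgroup.le_normalizer hp)) hn)
      rwa [← eq_of_inv_mul_eq_one this]
    refine ⟨hNP, fun x hx => ?_⟩
    obtain ⟨c, hc, hcx⟩ : ∃ c ∈ ⁅(P : Subgroup G), (P : Subgroup G)⁆, π c = π (x ^ 2) := by
      have := hsq (π x) (Subgroup.mem_map_of_mem π hx)
      rwa [← map_pow, ← Subgroup.map_commutator] at this
    have hm : c⁻¹ * x ^ 2 ∈ K ⊓ (P : Subgroup G) := Subgroup.mem_inf.mpr ⟨QuotientGroup.eq.mp hcx,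
      mul_mem (inv_mem (Subgroup.commutator_le_self _ hc)) (pow_mem hx 2)⟩
    rw [hKP, Subgroup.mem_bot] at hm
    rwa [← eq_of_inv_mul_eq_one hm]
  · intro hC χ hodd
    have hA := hQ.mpr (crit_map π hπ P hC)
    obtain ⟨lam, hlam, hinv⟩ := exists_fixed_over (K := K) P χ hodd
    -- the fixed linear character is trivial
    have hone : lam = 1 := by
      refine MonoidHom.ext fun k => ?_
      have := Fintype.ofFinite (P : Subgroup G)
      let _ : CommGroup K := { (inferInstance : Group K) with mul_comm := fun a b => mul_comm' a b }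
      let cp : ↥(P : Subgroup G) → K := fun p =>
        ⟨(p : G) * k * (p : G)⁻¹, Subgroup.Normal.conj_mem inferInstance _ k.2 _⟩
      let c : K := ∏ p, cp p
      have hc : c = 1 := by
        have hfix : ∀ q : (P : Subgroup G), (q : G) * c * (q : G)⁻¹ = c := fun q => by
          let cq : K →* K :=
            { toFun := fun a => ⟨(q : G) * a * (q : G)⁻¹, Subgroup.Normal.conj_mem inferInstance _ a.2 _⟩
              map_one' := by ext; simp
              map_mul' := fun a b => by ext; simp [mul_assoc] }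
          refine congrArg Subtype.val (?_ : cq c = c)
          rw [map_prod]
          exact Fintype.prod_equiv (Equiv.mulLeft q) _ _ fun p => Subtype.ext (by
            simp [cp, cq, mul_assoc])
        refine Subtype.ext ?_
        have hm : (c : G) ∈ K ⊓ (P : Subgroup G) := Subgroup.mem_inf.mpr ⟨c.2, by
          rw [← hC.1, Subgroup.mem_normalizer_iff]
          intro h
          constructor
          · intro hh
            have := hfix ⟨h, hh⟩
            rwa [show (c : G) * h * (c : G)⁻¹ = h by
              rw [mul_inv_eq_iff_eq_mul]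
              exact (mul_inv_eq_iff_eq_mul.mp this).symm]
          · intro hh
            have := hfix ⟨_, hh⟩
            have e : h = (c : G)⁻¹ * ((c : G) * h * (c : G)⁻¹) * c := by group
            have e' : ((c : G) * h * (c : G)⁻¹) * c = c * ((c : G) * h * (c : G)⁻¹) :=
              mul_inv_eq_iff_eq_mul.mp this
            rw [e, mul_assoc, e', inv_mul_cancel_left]
            exact hh⟩
        rwa [hKP, Subgroup.mem_bot] at hm
      have hp : lam k ^ Nat.card (P : Subgroup G) = 1 := by
        have := congrArg lam hc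
        rw [map_prod, map_one, Finset.prod_congr rfl (g := fun _ => lam k)
          (fun (p : ↥(P : Subgroup G)) _ => show lam (cp p) = lam k from
            DFunLike.congr_fun (mem_stab.mp (hinv p.2)) k), Finset.prod_const, Finset.card_univ,
          Fintype.card_eq_nat_card] at this
        exact this
      obtain ⟨a, ha⟩ := IsPGroup.iff_card.mp P.2
      have hk : lam k ^ Nat.card K = 1 := by rw [← map_pow, pow_card_eq_one', map_one]
      exact orderOf_eq_one_iff.mp (Nat.eq_one_of_dvd_coprimes
        (Nat.Coprime.pow_right a (Nat.coprime_two_right.mpr hK))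
        (orderOf_dvd_of_pow_eq_one hk) (ha ▸ orderOf_dvd_of_pow_eq_one hp))
    rw [overLin_iff, hone] at hlam
    have hres := Clifford.resFun_eq_smul_of_invariant χ.2 (Chars.isIrrCharacter_of_hom (1 : K →* ℂˣ))
      hlam fun g => funext fun k => by simp [Clifford.conjFun]
    obtain ⟨ψ, hψ⟩ := descend π hπ χ fun x hx => by
      have h1 := congrFun hres ⟨x, (QuotientGroup.eq_one_iff x).mp hx⟩
      have h2 := congrFun hres 1
      simp only [Clifford.resFun, Pi.smul_apply, MonoidHom.one_apply, OneMemClass.coe_one] at h1 h2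
      rw [h1, h2]
    intro g
    rw [← hψ]
    refine hA ψ ?_ _
    rwa [charDegree_congr (ψ := (χ : G → ℂ)) (by rw [← map_one π, hψ])]

end OddCase

section TwoCase

variable (K : Subgroup G) [K.Normal] [IsMulCommutative K] (P : Sylow 2 G)
  (hKP : K ≤ (P : Subgroup G)) (h2 : ∀ k ∈ K, k ^ 2 = 1) (hne : K ≠ ⊥) [Group.IsSolvable G]
  (IH : ∀ (B : Type u) [Group B] [Finite B] [Group.IsSolvable B],
    Nat.card B < Nat.card G → Goal B)

omit [IsMulCommutative K] [Finite G] [K.Normal] [Group.IsSolvable G] in
include h2 in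
theorem sq_lin (lam : K →* ℂˣ) (k : K) : lam k ^ 2 = 1 := by
  rw [← map_pow, show k ^ 2 = 1 from Subtype.ext (h2 k k.2), map_one]

omit [IsMulCommutative K] [K.Normal] [Group.IsSolvable G] in
include hne in
theorem card_quot_lt (T : Subgroup G) (hKT : K ≤ T) :
    Nat.card (T ⧸ K.subgroupOf T) < Nat.card G := by
  have h1 : 1 < Nat.card (K.subgroupOf T) := by
    rw [Nat.card_congr (Subgroup.subgroupOfEquivOfLe hKT).toEquiv]
    exact (Subgroup.one_lt_card_iff_ne_bot _).mpr hne
  calc Nat.card (T ⧸ K.subgroupOf T)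
      < Nat.card (T ⧸ K.subgroupOf T) * Nat.card (K.subgroupOf T) :=
        lt_mul_of_one_lt_right Nat.card_pos h1
    _ = Nat.card T := (Subgroup.card_eq_card_quotient_mul_card_subgroup _).symm
    _ ≤ Nat.card G := Nat.le_of_dvd Nat.card_pos T.card_subgroup_dvd_card

include hKP h2 hne IH

theorem count_two : Nat.card (RO G) =
    Nat.card (RO (Subgroup.normalizer ((P : Subgroup G) : Set G))) := by
  set N := Subgroup.normalizer ((P : Subgroup G) : Set G) with hNdef
  have hKN : K ≤ N := hKP.trans Subgroup.le_normalizer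
  set K' := K.subgroupOf N with hK'
  have : IsMulCommutative K' := ⟨⟨fun a b => (Subgroup.subgroupOfEquivOfLe hKN).injective (by
    rw [map_mul, map_mul]; exact mul_comm' _ _)⟩⟩
  let e : K' ≃* K := Subgroup.subgroupOfEquivOfLe hKN
  let L := {lam : K →* ℂˣ // (P : Subgroup G) ≤ stab lam}
  have : Finite (K →* ℂˣ) := Finite.of_injective Chars.linIrr Chars.linIrr_injective
  let P' : Sylow 2 N := P.subtype Subgroup.le_normalizer
  have hstab : ∀ (lam : K →* ℂˣ) (n : N),
      n ∈ stab (lam.comp e.toMonoidHom) ↔ (n : G) ∈ stab lam := fun lam n => by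
    rw [mem_stab, mem_stab]
    constructor
    · intro h
      refine MonoidHom.ext fun k => ?_
      exact DFunLike.congr_fun h ⟨⟨k, hKN k.2⟩, k.2⟩
    · exact fun h => MonoidHom.ext fun k => DFunLike.congr_fun h (e k)
  have hcnj : ∀ (lam : K →* ℂˣ) (n : N),
      cnj n (lam.comp e.toMonoidHom) = (cnj (n : G) lam).comp e.toMonoidHom := fun lam n => rfl
  have : Finite (RO G) := finite_RO
  have : Finite (RO N) := finite_RO
  refine card_eq_of_fibres (L := L) (fun χ l => OverLin K l.1 (χ.1 : G → ℂ))
    (fun ψ l => OverLin K' (l.1.comp e.toMonoidHom) (ψ.1 : N → ℂ))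
    (fun l l' => ∃ n ∈ N, cnj n l.1 = l'.1) ?_ ?_ ?_ ?_ ?_
  · intro χ
    obtain ⟨lam, h, hinv⟩ := exists_fixed_over (K := K) P χ.1 χ.2.2
    exact ⟨⟨lam, hinv⟩, h⟩
  · intro χ l l' hl
    constructor
    · intro hl'
      obtain ⟨g, hg⟩ := exists_cnj_of_overLin hl hl'
      -- fusion of fixed points
      have h1 : ((g • P : Sylow 2 G) : Subgroup G) ≤ stab l.1 := by
        intro y hy
        obtain ⟨x, hx, rfl⟩ := Subgroup.mem_map.mp
          (show y ∈ (P : Subgroup G).map (MulAut.conj g).toMonoidHom from hy)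
        rw [mem_stab]
        show cnj (g * x * g⁻¹) l.1 = l.1
        rw [cnj_mul, cnj_mul, hg, mem_stab.mp (l'.2 hx), ← hg, ← cnj_mul, mul_inv_cancel, cnj_one]
      obtain ⟨t, ht⟩ := MulAction.exists_smul_eq (stab l.1) ((g • P).subtype h1) (P.subtype l.2)
      have ht' : ((t : G) * g) • P = P := by
        rw [mul_smul]
        exact Sylow.subtype_injective (hP := Subgroup.conj_smul_le_of_le h1 t) (hQ := l.2)
          ((Sylow.smul_subtype h1 t).symm.trans ht)
      refine ⟨(t : G) * g, Sylow.smul_eq_iff_mem_normalizer.mp ht', ?_⟩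
      rw [cnj_mul, mem_stab.mp t.2, hg]
    · rintro ⟨n, -, hn⟩
      rw [← hn]
      exact (overLin_cnj (Chars.irr_isClassFunction χ.1) n).mpr hl
  · intro ψ
    obtain ⟨lam', h, hinv⟩ := exists_fixed_over (K := K') P' ψ.1 ψ.2.2
    have he : (lam'.comp e.symm.toMonoidHom).comp e.toMonoidHom = lam' := by ext k; simp
    refine ⟨⟨lam'.comp e.symm.toMonoidHom, fun x hx => ?_⟩, by rw [he]; exact h⟩
    have := (hstab (lam'.comp e.symm.toMonoidHom) ⟨x, Subgroup.le_normalizer hx⟩).mp
    rw [he] at this
    exact this (hinv hx)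
  · intro ψ l l' hl
    constructor
    · intro hl'
      obtain ⟨n, hn⟩ := exists_cnj_of_overLin hl hl'
      refine ⟨n, n.2, MonoidHom.ext fun k => ?_⟩
      exact DFunLike.congr_fun hn ⟨⟨k, hKN k.2⟩, k.2⟩
    · rintro ⟨n, hn, hnl⟩
      have := (overLin_cnj (Chars.irr_isClassFunction ψ.1) (⟨n, hn⟩ : N)).mpr hl
      rwa [hcnj, show cnj n l.1 = l'.1 from hnl] at this
  rintro ⟨lam, hPT⟩
  set lam' := lam.comp e.toMonoidHom with hlam'
  have hsq := sq_lin K h2 lam
  have hPT' : (P' : Subgroup N) ≤ stab lam' := fun x hx => (hstab lam x).mpr (hPT hx)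
  have hK'P' : K' ≤ (P' : Subgroup N) := fun x hx => hKP hx
  by_cases hν : ∃ ν : (P : Subgroup G) →* ℂˣ, (∀ x, ν x ^ 2 = 1) ∧
      ∀ k : K, ν ⟨k, hKP k.2⟩ = lam k
  swap
  · have h1 : IsEmpty {χ : RO G // OverLin K lam (χ.1 : G → ℂ)} :=
      ⟨fun χ => hν (exists_real_ext_of_fibre P hKP hsq hPT χ.1 χ.2)⟩
    have h2' : IsEmpty {ψ : RO N // OverLin K' lam' (ψ.1 : N → ℂ)} := ⟨fun ψ => by
      obtain ⟨ν', hν', hext'⟩ :=
        exists_real_ext_of_fibre P' hK'P' (fun k => hsq (e k)) hPT' ψ.1 ψ.2
      let eP : (P' : Subgroup N) ≃* (P : Subgroup G) :=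
        Subgroup.subgroupOfEquivOfLe Subgroup.le_normalizer
      exact hν ⟨ν'.comp eP.symm.toMonoidHom,
        fun x => hν' _, fun k => hext' ⟨⟨k, hKN k.2⟩, k.2⟩⟩⟩
    rw [Nat.card_of_isEmpty, Nat.card_of_isEmpty]
  obtain ⟨ν, hν, hνext⟩ := hν
  obtain ⟨δ, hδ, hext⟩ := exists_real_ext_stab P hKP hPT ν hν hνext
  let KT := K.subgroupOf (stab lam)
  let π : stab lam →* stab lam ⧸ KT := QuotientGroup.mk' KT
  have hπ : Function.Surjective π := QuotientGroup.mk'_surjective KT
  let PT : Sylow 2 (stab lam) := P.subtype hPT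
  let PB : Sylow 2 (stab lam ⧸ KT) := PT.mapSurjective hπ
  set NB := Subgroup.normalizer ((PB : Subgroup (stab lam ⧸ KT)) : Set (stab lam ⧸ KT)) with hNB
  have hNBmap : (Subgroup.normalizer ((PT : Subgroup (stab lam)) : Set (stab lam))).map π = NB := by
    rw [hNB, Sylow.coe_mapSurjective]; exact map_normalizer π hπ PT
  let ι : stab lam' →* stab lam :=
    ((N.subtype).comp (stab lam').subtype).codRestrict (stab lam) fun t => (hstab lam t.1).mp t.2
  have hmemN : ∀ t : stab lam,
      t ∈ Subgroup.normalizer ((PT : Subgroup (stab lam)) : Set (stab lam)) ↔ (t : G) ∈ N := fun t => by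
    rw [hNdef, Subgroup.mem_normalizer_iff, Subgroup.mem_normalizer_iff]
    constructor
    · intro h x
      constructor
      · exact fun hx => (h ⟨x, hPT hx⟩).mp hx
      · intro hx
        have hxT : x ∈ stab lam := by
          have := mul_mem (mul_mem (inv_mem t.2) (hPT hx)) t.2
          rwa [show (t : G)⁻¹ * ((t : G) * x * (t : G)⁻¹) * t = x by group] at this
        exact (h ⟨x, hxT⟩).mpr hx
    · exact fun h x => h x
  let f' : stab lam' →* NB := (π.comp ι).codRestrict NB fun t => by
    rw [← hNBmap]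
    exact Subgroup.mem_map_of_mem π ((hmemN _).mpr t.1.2)
  have hf' : Function.Surjective f' := fun y => by
    have hy : (y : stab lam ⧸ KT) ∈
        (Subgroup.normalizer ((PT : Subgroup (stab lam)) : Set (stab lam))).map π := by
      rw [hNBmap]; exact y.2
    obtain ⟨t, ht, hty⟩ := Subgroup.mem_map.mp hy
    exact ⟨⟨⟨t, (hmemN t).mp ht⟩, (hstab lam _).mpr t.2⟩, Subtype.ext hty⟩
  rw [card_fibre P hPT δ hδ hext π hπ fun t => QuotientGroup.eq_one_iff t,
    card_fibre P' hPT' (δ.comp ι) (fun t => hδ _) (fun k => hext (e k)) f' hf' fun t => by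
      rw [Subtype.ext_iff]
      exact QuotientGroup.eq_one_iff (ι t)]
  exact (IH _ (card_quot_lt K hne (stab lam) (le_stab lam)) PB).1

theorem allReal_iff_two : AllReal G ↔ Crit (P : Subgroup G) := by
  let _ := Fintype.ofFinite G
  let π := QuotientGroup.mk' K
  have hπ : Function.Surjective π := QuotientGroup.mk'_surjective K
  have hlt : Nat.card (G ⧸ K) < Nat.card G := by
    calc Nat.card (G ⧸ K) < Nat.card (G ⧸ K) * Nat.card K :=
          lt_mul_of_one_lt_right Nat.card_pos ((Subgroup.one_lt_card_iff_ne_bot _).mpr hne)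
      _ = Nat.card G := (Subgroup.card_eq_card_quotient_mul_card_subgroup _).symm
  have hQ := (IH _ hlt (P.mapSurjective hπ)).2
  rw [Sylow.coe_mapSurjective] at hQ
  constructor
  · intro hA
    obtain ⟨hN, hsq⟩ := hQ.mp (allReal_map π hπ hA)
    have hcomap : ((P : Subgroup G).map π).comap π = (P : Subgroup G) :=
      Subgroup.comap_map_eq_self (by rw [QuotientGroup.ker_mk']; exact hKP)
    refine ⟨le_antisymm (fun n hn => ?_) Subgroup.le_normalizer, (card_range_sq _).mpr ?_⟩
    · rw [← hcomap, Subgroup.mem_comap, ← hN, ← map_normalizer π hπ P]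
      exact Subgroup.mem_map_of_mem π hn
    -- every linear character of `P` is real
    have key : ∀ μ : (P : Subgroup G) →* ℂˣ, ∀ x, μ x ^ 2 = 1 := by
      intro μ
      let lam : K →* ℂˣ := μ.comp (Subgroup.inclusion hKP)
      have hPT : (P : Subgroup G) ≤ stab lam := fun p hp => MonoidHom.ext fun k => by
        show μ ⟨p * k * p⁻¹, _⟩ = μ ⟨k, _⟩
        have e : (⟨p * k * p⁻¹, hKP (Subgroup.Normal.conj_mem inferInstance _ k.2 p)⟩ :
            (P : Subgroup G)) = ⟨p, hp⟩ * ⟨k, hKP k.2⟩ * ⟨p, hp⟩⁻¹ := rfl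
        rw [e, map_mul, map_mul, map_inv, mul_inv_cancel_comm]
      have := Fintype.ofFinite (stab lam)
      let H : Subgroup (stab lam) := (P.subtype hPT : Subgroup (stab lam))
      let eH : H ≃* (P : Subgroup G) := Subgroup.subgroupOfEquivOfLe hPT
      have := Fintype.ofFinite H
      have := Fintype.ofFinite K
      obtain ⟨η, hηo, hημ⟩ := exists_odd_over H (odd_index_of_le _ le_rfl) (μ.comp eH.toMonoidHom)
      let ι : K →* H := eH.symm.toMonoidHom.comp (Subgroup.inclusion hKP)
      have hKHe : ∀ k : K, (μ.comp eH.toMonoidHom).comp ι k = lam k := fun k => by simp [ι, lam]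
      have hc := constituent_comp ι (Chars.isCharacter_restrict H (Chars.irr_isCharacter η))
        (Chars.linIrr (μ.comp eH.toMonoidHom)) hημ
        (Chars.isIrrCharacter_of_hom ((μ.comp eH.toMonoidHom).comp ι))
        (ne_of_eq_of_ne (Chars.classInner_irr_self (Chars.linIrr ((μ.comp eH.toMonoidHom).comp ι)))
          one_ne_zero)
      rw [MonoidHom.ext hKHe] at hc
      have hover : OverLin (K.subgroupOf (stab lam))
          (lam.comp (Subgroup.subgroupOfEquivOfLe (le_stab lam)).toMonoidHom)
          (η : stab lam → ℂ) := by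
        have := Fintype.ofFinite (K.subgroupOf (stab lam))
        rw [overLin_iff]
        rw [← Clifford.classInner_comp_equiv (Subgroup.subgroupOfEquivOfLe (le_stab lam))] at hc
        exact hc
      obtain ⟨hirr, -, hdeg, -, hreal⟩ := overLin_induced η hover
      have hηr : IsRealFun (η : stab lam → ℂ) := (hreal (sq_lin K h2 lam)).mp
        (hA ⟨_, hirr⟩ (by
          show Odd (Cfsg.charDegree (indFun (stab lam) (η : stab lam → ℂ)))
          rw [hdeg]; exact (odd_index_of_le P hPT).mul hηo))
      obtain ⟨ν, hν, hνext⟩ := exists_real_ext_of_overLin P hKP hPT η hover hηo hηr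
      intro x
      let fP : (P : Subgroup G) →* (P : Subgroup G).map π := π.subgroupMap _
      have hker : fP.ker ≤ (μ * ν).ker := fun y hy => by
        have hyK : (y : G) ∈ K := (QuotientGroup.eq_one_iff (y : G)).mp (congrArg Subtype.val hy)
        rw [MonoidHom.mem_ker, MonoidHom.mul_apply,
          show ν y = lam ⟨(y : G), hyK⟩ from hνext ⟨(y : G), hyK⟩]
        show lam ⟨(y : G), hyK⟩ * lam ⟨(y : G), hyK⟩ = 1
        rw [← sq, sq_lin K h2 lam]
      let ω := fP.liftOfSurjective (π.subgroupMap_surjective _) ⟨μ * ν, hker⟩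
      have hω : ω (fP x) = μ x * ν x := MonoidHom.liftOfRightInverse_comp_apply _ _ _ _ _
      have h1 : ω (fP x) ^ 2 = 1 := by
        rw [← map_pow, ← MonoidHom.mem_ker]
        exact Abelianization.commutator_subset_ker ω ((card_range_sq _).mp hsq (fP x))
      rwa [hω, mul_pow, hν, mul_one] at h1
    intro x
    by_contra hx
    have hx' : Abelianization.of (x ^ 2) ≠ 1 := fun h => hx (by
      rwa [← Abelianization.ker_of, MonoidHom.mem_ker])
    obtain ⟨θ, hθ⟩ := CommGroup.exists_apply_ne_one_of_hasEnoughRootsOfUnity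
      (Abelianization (P : Subgroup G)) ℂ hx'
    apply hθ
    rw [map_pow, map_pow]
    exact key (θ.comp Abelianization.of) x
  · intro hC χ hodd
    obtain ⟨lam, hlam, hPT⟩ := exists_fixed_over (K := K) P χ hodd
    obtain ⟨η, hη, hind, hηo⟩ := exists_odd_correspondent χ hodd hlam
    let _ := Fintype.ofFinite (stab lam)
    have hsq := sq_lin K h2 lam
    rw [← hind]
    refine ((overLin_induced η hη).2.2.2.2 hsq).mpr ?_
    let PT : Sylow 2 (stab lam) := P.subtype hPT
    -- a real extension on `P`
    have := Fintype.ofFinite (P : Subgroup G)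
    have := Fintype.ofFinite K
    obtain ⟨θ, hθo, hθ, -⟩ := exists_odd_constituent
      (φ := fun x : (P : Subgroup G) => (η : stab lam → ℂ) (Subgroup.inclusion hPT x))
      (Chars.isCharacter_comp _ (Chars.irr_isCharacter η))
      (by rwa [charDegree_congr (ψ := (η : stab lam → ℂ)) (by rw [map_one])])
    obtain ⟨ν, hν⟩ := Chars.exists_hom_of_degree_one (Chars.irr_isCharacter θ)
      (apply_one_of_two_group P.2 θ hθo)
    have hνsq : ∀ x, ν x ^ 2 = 1 := fun x => by
      rw [← map_pow, ← MonoidHom.mem_ker]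
      exact Abelianization.commutator_subset_ker ν ((card_range_sq _).mp hC.2 x)
    have hνext : ∀ k : K, ν ⟨k, hKP k.2⟩ = lam k := by
      have hc := constituent_comp (Subgroup.inclusion hKP)
        (Chars.isCharacter_comp (Subgroup.inclusion hPT) (Chars.irr_isCharacter η)) θ hθ
        (Chars.isIrrCharacter_of_hom (ν.comp (Subgroup.inclusion hKP))) (by
          rw [hν]
          exact ne_of_eq_of_ne
            (Chars.classInner_irr_self (Chars.linIrr (ν.comp (Subgroup.inclusion hKP)))) one_ne_zero)
      have e : (fun a : K =>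
          (η : stab lam → ℂ) (Subgroup.inclusion hPT (Subgroup.inclusion hKP a))) =
          (η : stab lam → ℂ) 1 • fun a => (lam a : ℂ) :=
        funext fun a => eq_smul_of_overLin (le_stab lam) le_rfl η hη a
      rw [e] at hc
      exact fun k => DFunLike.congr_fun (linear_eq_of_inner_smul hc) k
    obtain ⟨δ, hδ, hext⟩ := exists_real_ext_stab P hKP hPT ν hνsq hνext
    let KT := K.subgroupOf (stab lam)
    let πT : stab lam →* stab lam ⧸ KT := QuotientGroup.mk' KT
    have hπT : Function.Surjective πT := QuotientGroup.mk'_surjective KT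
    have hCT : Crit (PT : Subgroup (stab lam)) := by
      refine ⟨le_antisymm (fun t ht => ?_) Subgroup.le_normalizer, (card_range_sq _).mpr fun x => ?_⟩
      · show (t : G) ∈ (P : Subgroup G)
        rw [← hC.1, Subgroup.mem_normalizer_iff]
        have ht' := Subgroup.mem_normalizer_iff.mp ht
        intro x
        constructor
        · exact fun hx => (ht' ⟨x, hPT hx⟩).mp hx
        · intro hx
          have hxT : x ∈ stab lam := by
            have := mul_mem (mul_mem (inv_mem t.2) (hPT hx)) t.2
            rwa [show (t : G)⁻¹ * ((t : G) * x * (t : G)⁻¹) * t = x by group] at this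
          exact (ht' ⟨x, hxT⟩).mpr hx
      · let eT : (P : Subgroup G) ≃* (PT : Subgroup (stab lam)) :=
          (Subgroup.subgroupOfEquivOfLe hPT).symm
        have h := Subgroup.mem_map_of_mem eT.toMonoidHom ((card_range_sq _).mp hC.2 (eT.symm x))
        rw [commutator_def, Subgroup.map_commutator,
          Subgroup.map_top_of_surjective eT.toMonoidHom eT.surjective, map_pow] at h
        simpa [commutator_def] using h
    have hAT := (IH _ (card_quot_lt K hne (stab lam) (le_stab lam)) (PT.mapSurjective hπT)).2.mpr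
      (by rw [Sylow.coe_mapSurjective]; exact crit_map πT hπT PT hCT)
    obtain ⟨ψ, hψ⟩ := descend πT hπT (twist δ η) fun t ht =>
      (overLin_twist_iff δ hδ hext η).mp hη t ((QuotientGroup.eq_one_iff t).mp ht)
    have hr : IsRealFun (twist δ η : stab lam → ℂ) := fun t => by
      rw [← hψ]
      refine hAT ψ ?_ _
      rwa [charDegree_congr (ψ := (twist δ η : stab lam → ℂ)) (by rw [← map_one πT, hψ]),
        (twist_props hδ η).2.2]
    rw [← (twist_props hδ η).1]
    exact (twist_props hδ (twist δ η)).2.1 hr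

end TwoCase

/-- Real odd-degree characters of solvable groups and of Sylow `2`-normalizers. -/
theorem goal_of_solvable (G : Type u) [Group G] [Finite G] [Group.IsSolvable G] : Goal G := by
  suffices key : ∀ (n : ℕ) (X : Type u) [Group X] [Finite X] [Group.IsSolvable X],
      Nat.card X = n → Goal X from key _ G rfl
  intro n
  induction n using Nat.strong_induction_on with
  | _ n ih =>
    intro X _ _ _ hn P
    subst hn
    rcases subsingleton_or_nontrivial X with hX | hX
    · have hN : Subgroup.normalizer ((P : Subgroup X) : Set X) = ⊤ := Subsingleton.elim _ _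
      refine ⟨?_, ⟨fun _ => ⟨Subsingleton.elim _ _, fun x _ => ?_⟩, fun _ χ _ g => ?_⟩⟩
      · rw [hN, ← card_RO_of_surjective (Subgroup.topEquiv (G := X)).toMonoidHom
          Subgroup.topEquiv.surjective (fun _ => True) fun χ _ _ =>
            ⟨fun _ x _ => by rw [Subsingleton.elim x 1], fun _ => trivial⟩]
        exact Nat.card_congr (Equiv.subtypeUnivEquiv fun _ => trivial)
      · rw [Subsingleton.elim (x ^ 2) 1]; exact one_mem _
      · obtain ⟨d, -, hd⟩ := Chars.isIrrCharacter_exists_degree_pos χ.2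
        rw [Subsingleton.elim g 1, hd, Complex.conj_natCast]
    obtain ⟨K, hKn, hK1, -, hmin⟩ :=
      MinimalNormal.exists_minimal_normal_le (inferInstance : (⊤ : Subgroup X).Normal) top_ne_bot
    have := hKn
    obtain ⟨hab, q, hq, hexp⟩ := MinimalNormal.elementaryAbelian K hK1 hmin
    have hlt : Nat.card (X ⧸ K) < Nat.card X := by
      calc Nat.card (X ⧸ K) < Nat.card (X ⧸ K) * Nat.card K :=
            lt_mul_of_one_lt_right Nat.card_pos ((Subgroup.one_lt_card_iff_ne_bot _).mpr hK1)
        _ = Nat.card X := (Subgroup.card_eq_card_quotient_mul_card_subgroup _).symm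
    rcases hq.eq_two_or_odd' with rfl | hqo
    · have hK2 : IsPGroup 2 K := fun k => ⟨1, Subtype.ext (by simpa using hexp k k.2)⟩
      have hKP : K ≤ (P : Subgroup X) := by
        obtain ⟨Q, hQ⟩ := hK2.exists_le_sylow
        obtain ⟨g, rfl⟩ := MulAction.exists_smul_eq X Q P
        intro k hk
        have : g⁻¹ * k * g ∈ (Q : Subgroup X) := hQ (by simpa using hKn.conj_mem k hk g⁻¹)
        exact ⟨g⁻¹ * k * g, this, by simp [mul_assoc]⟩
      exact ⟨count_two K P hKP hexp hK1 fun B _ _ _ h => ih _ h B rfl,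
        allReal_iff_two K P hKP hexp hK1 fun B _ _ _ h => ih _ h B rfl⟩
    · have := Fact.mk hq
      obtain ⟨a, ha⟩ := IsPGroup.iff_card.mp
        (show IsPGroup q K from fun k => ⟨1, Subtype.ext (by simpa using hexp k k.2)⟩)
      have hKodd : Odd (Nat.card K) := ha ▸ hqo.pow
      exact ⟨count_odd K hKodd P (ih _ hlt (X ⧸ K) rfl),
        allReal_iff_odd K hKodd P (ih _ hlt (X ⧸ K) rfl)⟩

end Cfsg.Agent.Lib.OddReal
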